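import Mathlib
import Groth.Agent.Lib.Helper4.Noether1

set_option linter.style.haveILetI false
set_option linter.unusedVariables false
set_option linter.unusedSectionVars false
set_option autoImplicit false
set_option backward.isDefEq.respectTransparency.types false

universe u

/-! helper7: helper7: a pushout of commutative rings is generated by its legs; Noether normalization of a fibre ring B tensor K with parameters lifted from B -/

namespace Groth.Agent.Helper7.FibNN

open CategoryTheory CategoryTheory.Limits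

section PO

/-- a pushout of commutative rings is generated by the images of the two legs -/
theorem subring_eq_top_of_isPushout {A B K C : CommRingCat.{u}} {f : A ⟶ B} {g : A ⟶ K}
    {inl : B ⟶ C} {inr : K ⟶ C} (h : IsPushout f g inl inr) (D : Subring C)
    (hl : ∀ b, inl b ∈ D) (hr : ∀ k, inr k ∈ D) : D = ⊤ := by
  let ι : CommRingCat.of D ⟶ C := CommRingCat.ofHom D.subtype
  let inl' : B ⟶ CommRingCat.of D := CommRingCat.ofHom (inl.hom.codRestrict D hl)
  let inr' : K ⟶ CommRingCat.of D := CommRingCat.ofHom (inr.hom.codRestrict D hr)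
  have hw : f ≫ inl' = g ≫ inr' := by
    ext a
    have := congrArg (fun φ => φ.hom a) h.w
    exact this
  have h1 : inl' ≫ ι = inl := by
    ext b
    rfl
  have h2 : inr' ≫ ι = inr := by
    ext k
    rfl
  have hid : h.desc inl' inr' hw ≫ ι = 𝟙 C := by
    apply h.hom_ext
    · rw [h.inl_desc_assoc, h1, Category.comp_id]
    · rw [h.inr_desc_assoc, h2, Category.comp_id]
  rw [eq_top_iff]
  rintro x -
  have hx : ι (h.desc inl' inr' hw x) = x := by
    have := congrArg (fun φ => φ.hom x) hid
    exact this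
  rw [← hx]
  exact (h.desc inl' inr' hw x).2

end PO

section NN

variable {A B K C : Type u} [CommRing A] [CommRing B] [Field K] [CommRing C]

/-- Noether normalization of a pushout `C = B ⊗_A K` with parameters coming from `B` -/
theorem exists_lift_finite (f : A →+* B) (ev : A →+* K) (inl : B →+* C) (inr : K →+* C)
    (hw : inl.comp f = inr.comp ev)
    (hgen : ∀ D : Subring C, (∀ b, inl b ∈ D) → (∀ k, inr k ∈ D) → D = ⊤)
    (hK : ∀ u : K, ∃ a s : A, ev s ≠ 0 ∧ u * ev s = ev a)
    (hft : inr.FiniteType) [Nontrivial C] (e : ℕ) (hdim : ringKrullDim C = e) :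
    ∃ b : Fin e → B, (MvPolynomial.eval₂Hom inr (fun i => inl (b i)) :
      MvPolynomial (Fin e) K →+* C).Finite := by
  have hw' : ∀ a : A, inr (ev a) = inl (f a) := fun a => (congrArg (fun ψ => ψ a) hw).symm
  algebraize [inr]
  obtain ⟨φ, hφfin, hφinj⟩ :=
    (Groth.Agent.Helper4.NN.ringKrullDim_eq_iff_exists_finite_injective K C e).mp hdim
  let D : Subring C :=
    { carrier := {c | ∃ (b : B) (s : A), ev s ≠ 0 ∧ c * inr (ev s) = inl b}
      mul_mem' := by
        rintro c c' ⟨b, s, hs, h⟩ ⟨b', s', hs', h'⟩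
        refine ⟨b * b', s * s', ?_, ?_⟩
        · rw [map_mul]; exact mul_ne_zero hs hs'
        · rw [map_mul, map_mul, map_mul, ← h, ← h']; ring
      one_mem' := ⟨1, 1, by simp, by simp⟩
      add_mem' := by
        rintro c c' ⟨b, s, hs, h⟩ ⟨b', s', hs', h'⟩
        refine ⟨b * f s' + b' * f s, s * s', ?_, ?_⟩
        · rw [map_mul]; exact mul_ne_zero hs hs'
        · rw [map_mul, map_mul, map_add, map_mul, map_mul, ← h, ← h', ← hw', ← hw']; ring
      zero_mem' := ⟨0, 1, by simp, by simp⟩
      neg_mem' := by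
        rintro c ⟨b, s, hs, h⟩
        exact ⟨-b, s, hs, by rw [map_neg, ← h]; ring⟩ }
  have hD : D = ⊤ := by
    apply hgen D
    · intro b
      exact ⟨b, 1, by simp, by simp⟩
    · intro k
      obtain ⟨a, s, hs, h⟩ := hK k
      exact ⟨f a, s, hs, by rw [← map_mul, h, hw']⟩
  have hall : ∀ c : C, ∃ (b : B) (s : A), ev s ≠ 0 ∧ c * inr (ev s) = inl b := by
    intro c
    have : c ∈ D := hD ▸ Subring.mem_top c
    exact this
  choose b s hs hbs using fun i : Fin e => hall (φ (MvPolynomial.X i))
  refine ⟨b, ?_⟩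
  let τ : MvPolynomial (Fin e) K →+* MvPolynomial (Fin e) K :=
    MvPolynomial.eval₂Hom MvPolynomial.C
      (fun i => MvPolynomial.C ((ev (s i))⁻¹) * MvPolynomial.X i)
  have hcomp : φ.toRingHom = (MvPolynomial.eval₂Hom inr (fun i => inl (b i))).comp τ := by
    apply MvPolynomial.ringHom_ext
    · intro k
      simp only [τ, RingHom.comp_apply, MvPolynomial.coe_eval₂Hom, MvPolynomial.eval₂_C]
      change φ (MvPolynomial.C k) = inr k
      rw [← MvPolynomial.algebraMap_eq, φ.commutes]
      rfl
    · intro i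
      simp only [τ, RingHom.comp_apply, MvPolynomial.coe_eval₂Hom, MvPolynomial.eval₂_X,
        MvPolynomial.eval₂_mul, MvPolynomial.eval₂_C]
      change φ (MvPolynomial.X i) = inr ((ev (s i))⁻¹) * inl (b i)
      rw [← hbs i, mul_comm (φ (MvPolynomial.X i)), ← mul_assoc, ← map_mul,
        inv_mul_cancel₀ (hs i), map_one, one_mul]
  rw [hcomp] at hφfin
  exact RingHom.Finite.of_comp_finite hφfin

/-- transfer of finiteness along an isomorphism of pushouts -/
theorem finite_of_ringEquiv {C₂ : Type u} [CommRing C₂] (inl : B →+* C) (inr : K →+* C)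
    (inl₂ : B →+* C₂) (inr₂ : K →+* C₂) (θ : C ≃+* C₂)
    (h1 : ∀ b, θ (inl b) = inl₂ b) (h2 : ∀ k, θ (inr k) = inr₂ k) {σ : Type*} (b : σ → B)
    (hfin : (MvPolynomial.eval₂Hom inr (fun i => inl (b i)) : MvPolynomial σ K →+* C).Finite) :
    (MvPolynomial.eval₂Hom inr₂ (fun i => inl₂ (b i)) : MvPolynomial σ K →+* C₂).Finite := by
  have hcomp : (MvPolynomial.eval₂Hom inr₂ (fun i => inl₂ (b i)) : MvPolynomial σ K →+* C₂) =
      θ.toRingHom.comp (MvPolynomial.eval₂Hom inr (fun i => inl (b i))) := by
    apply MvPolynomial.ringHom_ext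
    · intro k
      simp only [RingHom.comp_apply, MvPolynomial.coe_eval₂Hom, MvPolynomial.eval₂_C]
      exact (h2 k).symm
    · intro i
      simp only [RingHom.comp_apply, MvPolynomial.coe_eval₂Hom, MvPolynomial.eval₂_X]
      exact (h1 (b i)).symm
  rw [hcomp]
  exact (RingHom.Finite.of_surjective _ θ.surjective).comp hfin

end NN

end Groth.Agent.Helper7.FibNN
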