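import Mathlib

set_option linter.style.haveILetI false
set_option linter.unusedVariables false
set_option linter.unusedSectionVars false
set_option autoImplicit false
set_option backward.isDefEq.respectTransparency.types false

universe u

/-! helper7: helper7: global sections of Spec of the residue field mapping to a scheme are the evaluation; residue fields of affine schemes are fraction fields of evaluations -/

namespace Groth.Agent.Helper7.FibNN

open CategoryTheory CategoryTheory.Limits AlgebraicGeometry

section Ev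

variable (Y : Scheme.{u}) (y : Y)

theorem fromSpecResidueField_appTop :
    (Y.fromSpecResidueField y).appTop ≫ (Scheme.ΓSpecIso (Y.residueField y)).hom =
      Y.evaluation ⊤ y trivial := by
  rw [Scheme.fromSpecResidueField, Scheme.Hom.comp_appTop, Scheme.fromSpecStalk_appTop]
  simp only [Category.assoc]
  rw [← Scheme.germ_residue]
  congr 1
  rw [Scheme.ΓSpecIso_naturality]
  have hid : (Spec (Y.presheaf.stalk y)).presheaf.map
      (homOfLE (le_top : (Y.fromSpecStalk y) ⁻¹ᵁ ⊤ ≤ ⊤)).op = 𝟙 _ :=
    (Spec (Y.presheaf.stalk y)).presheaf.map_id _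
  erw [hid]
  simp

theorem exists_evaluation_frac [IsAffine Y] (u : Y.residueField y) :
    ∃ a s : Γ(Y, ⊤), Y.evaluation ⊤ y trivial s ≠ 0 ∧
      u * Y.evaluation ⊤ y trivial s = Y.evaluation ⊤ y trivial a := by
  obtain ⟨z, rfl⟩ := Y.residue_surjective y u
  letI := Y.presheaf.algebra_section_stalk (U := ⊤) ⟨y, trivial⟩
  haveI := (isAffineOpen_top Y).isLocalization_stalk ⟨y, trivial⟩
  obtain ⟨⟨a, s⟩, has⟩ := IsLocalization.surj
    ((isAffineOpen_top Y).primeIdealOf ⟨y, trivial⟩).asIdeal.primeCompl z
  have hunit : IsUnit (algebraMap Γ(Y, ⊤) (Y.presheaf.stalk y) s.1) :=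
    IsLocalization.map_units (Y.presheaf.stalk y) s
  refine ⟨a, s.1, ?_, ?_⟩
  · have h1 : Y.evaluation ⊤ y trivial s.1 =
        Y.residue y (algebraMap Γ(Y, ⊤) (Y.presheaf.stalk y) s.1) := rfl
    rw [h1]
    exact (hunit.map (Y.residue y).hom).ne_zero
  · have h1 : Y.evaluation ⊤ y trivial s.1 =
        Y.residue y (algebraMap Γ(Y, ⊤) (Y.presheaf.stalk y) s.1) := rfl
    have h2 : Y.evaluation ⊤ y trivial a =
        Y.residue y (algebraMap Γ(Y, ⊤) (Y.presheaf.stalk y) a) := rfl
    rw [h1, h2, ← map_mul]
    exact congrArg _ has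

end Ev

end Groth.Agent.Helper7.FibNN
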