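import Mathlib
import Groth.Agent.Lib.Helper4.Noether1

/-! helper7: Noether normalization of a fibre ring by polynomial generators lifted to the base. -/

set_option autoImplicit false
set_option linter.style.haveILetI false
set_option linter.unusedVariables false
set_option linter.unusedSectionVars false
universe u
open scoped TensorProduct

namespace Groth.Agent.Helper7.FibNN

/-- Every element of `κ(p) ⊗ B` becomes of the form `1 ⊗ b` after scaling by some `s ∉ p`. -/
theorem exists_rep (A B : Type u) [CommRing A] [CommRing B] [Algebra A B]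
    (p : Ideal A) [p.IsPrime] (c : p.ResidueField ⊗[A] B) :
    ∃ s : A, s ∉ p ∧ ∃ b : B, algebraMap A p.ResidueField s • c = 1 ⊗ₜ[A] b := by
  induction c using TensorProduct.induction_on with
  | zero => exact ⟨1, fun h => (Ideal.IsPrime.ne_top inferInstance) ((Ideal.eq_top_iff_one p).mpr h),
      0, by simp⟩
  | tmul k b =>
    obtain ⟨⟨x, y⟩, rfl⟩ := IsLocalization.mk'_surjective (nonZeroDivisors (A ⧸ p)) k
    obtain ⟨a, rfl⟩ := Ideal.Quotient.mk_surjective x
    obtain ⟨y, hy⟩ := y
    obtain ⟨s, rfl⟩ := Ideal.Quotient.mk_surjective y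
    have hs : s ∉ p := by
      intro h
      have : (Ideal.Quotient.mk p s) = 0 := Ideal.Quotient.eq_zero_iff_mem.mpr h
      exact (nonZeroDivisors.ne_zero hy) this
    refine ⟨s, hs, a • b, ?_⟩
    rw [TensorProduct.smul_tmul', smul_eq_mul]
    have h1 : algebraMap A p.ResidueField s *
        IsLocalization.mk' p.ResidueField (Ideal.Quotient.mk p a)
          (⟨Ideal.Quotient.mk p s, hy⟩ : nonZeroDivisors (A ⧸ p)) = algebraMap A p.ResidueField a := by
      rw [IsScalarTower.algebraMap_apply A (A ⧸ p) p.ResidueField,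
        IsScalarTower.algebraMap_apply A (A ⧸ p) p.ResidueField a]
      rw [Ideal.Quotient.algebraMap_eq, mul_comm]
      exact IsLocalization.mk'_spec p.ResidueField _ _
    rw [h1, Algebra.algebraMap_eq_smul_one, TensorProduct.smul_tmul]
  | add c c' hc hc' =>
    obtain ⟨s, hs, b, hb⟩ := hc
    obtain ⟨s', hs', b', hb'⟩ := hc'
    refine ⟨s * s', ‹p.IsPrime›.mul_notMem hs hs', s' • b + s • b', ?_⟩
    rw [map_mul, smul_add, TensorProduct.tmul_add]
    congr 1
    · rw [mul_comm, mul_smul, hb, Algebra.algebraMap_eq_smul_one, smul_assoc, one_smul,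
        TensorProduct.tmul_smul]
    · rw [mul_smul, hb', Algebra.algebraMap_eq_smul_one, smul_assoc, one_smul,
        TensorProduct.tmul_smul]

open MvPolynomial in
theorem main (A B : Type u) [CommRing A] [CommRing B] [Algebra A B] [Algebra.FiniteType A B]
    (p : Ideal A) [p.IsPrime] (d : ℕ) (hd : ringKrullDim (p.ResidueField ⊗[A] B) = d) :
    ∃ π : MvPolynomial (Fin d) A →ₐ[A] B,
      (Algebra.TensorProduct.map (AlgHom.id p.ResidueField p.ResidueField) π).toRingHom.Finite := by
  classical
  let K := p.ResidueField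
  haveI : Nontrivial (K ⊗[A] B) := by
    by_contra h
    rw [not_nontrivial_iff_subsingleton] at h
    rw [ringKrullDim_eq_bot_of_subsingleton] at hd
    exact absurd hd (by simp)
  obtain ⟨φ, hφfin, -⟩ :=
    (Groth.Agent.Helper4.NN.ringKrullDim_eq_iff_exists_finite_injective K (K ⊗[A] B) d).mp hd
  choose s hs b hb using fun i : Fin d => exists_rep A B p (φ (X i))
  let u : Fin d → K := fun i => algebraMap A K (s i)
  have hu : ∀ i, u i ≠ 0 := by
    intro i h
    exact hs i ((Ideal.algebraMap_residueField_eq_zero).mp h)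
  let π : MvPolynomial (Fin d) A →ₐ[A] B := aeval b
  refine ⟨π, ?_⟩
  let Φ : K ⊗[A] MvPolynomial (Fin d) A →ₐ[K] K ⊗[A] B :=
    Algebra.TensorProduct.map (AlgHom.id K K) π
  let e : K ⊗[A] MvPolynomial (Fin d) A ≃ₐ[K] MvPolynomial (Fin d) K :=
    MvPolynomial.algebraTensorAlgEquiv A K
  let σ : MvPolynomial (Fin d) K →ₐ[K] MvPolynomial (Fin d) K := aeval (fun i => C (u i) * X i)
  let τ : MvPolynomial (Fin d) K →ₐ[K] MvPolynomial (Fin d) K :=
    aeval (fun i => C (u i)⁻¹ * X i)
  have hστ : σ.comp τ = AlgHom.id K _ := by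
    apply MvPolynomial.algHom_ext
    intro i
    simp only [AlgHom.comp_apply, τ, σ, aeval_X, map_mul, AlgHom.id_apply, aeval_C]
    rw [← mul_assoc]
    simp only [MvPolynomial.algebraMap_eq]
    rw [← C_mul, inv_mul_cancel₀ (hu i), C_1, one_mul]
  have hσsurj : Function.Surjective σ := fun x => ⟨τ x, by
    have := DFunLike.congr_fun hστ x
    simpa using this⟩
  have hcomp : Φ.comp e.symm.toAlgHom = φ.comp σ := by
    apply MvPolynomial.algHom_ext
    intro i
    simp only [AlgHom.comp_apply, AlgEquiv.coe_toAlgHom (R := K), σ, aeval_X, map_mul]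
    rw [show e.symm (X i) = 1 ⊗ₜ X i from MvPolynomial.algebraTensorAlgEquiv_symm_X A K i]
    show (Algebra.TensorProduct.map (AlgHom.id K K) π) ((1 : K) ⊗ₜ[A] X i) = _
    rw [Algebra.TensorProduct.map_tmul, AlgHom.id_apply]
    have : π (X i) = b i := by simp [π]
    rw [this, ← hb i]
    rw [show (C (u i) : MvPolynomial (Fin d) K) = algebraMap K _ (u i) from rfl, AlgHom.commutes,
      Algebra.smul_def]
  have hΦ : Φ = (φ.comp σ).comp e.toAlgHom := by
    rw [← hcomp]
    ext x
    simp
  have hfin : ((φ.comp σ).comp e.toAlgHom).toRingHom.Finite := by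
    have h1 : σ.toRingHom.Finite := RingHom.Finite.of_surjective _ hσsurj
    have h2 : e.toAlgHom.toRingHom.Finite := RingHom.Finite.of_surjective _ e.surjective
    exact (hφfin.comp h1).comp h2
  show Φ.toRingHom.Finite
  rw [hΦ]
  exact hfin

end Groth.Agent.Helper7.FibNN
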