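import Mathlib
import Groth.Agent.Lib.Helper7.FibNN.Alg
import Groth.Agent.Lib.Helper7.FibNN.Ev

set_option linter.style.haveILetI false
set_option linter.unusedVariables false
set_option linter.unusedSectionVars false
set_option autoImplicit false
set_option backward.isDefEq.respectTransparency.types false

universe u

/-! helper7: helper7: Noether normalization on a fibre of a finite type morphism of affine schemes: a morphism to affine space over the base inducing a finite morphism of fibres (S3394 core) -/

namespace Groth.Agent.Helper7.FibNN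

open CategoryTheory CategoryTheory.Limits AlgebraicGeometry AlgebraicGeometry.AffineSpace

section Dim

/-- the dimension of an affine scheme is the Krull dimension of its global sections -/
theorem topologicalKrullDim_eq_ringKrullDim_of_isAffine (X : Scheme.{u}) [IsAffine X] :
    topologicalKrullDim ↥X = ringKrullDim Γ(X, ⊤) := by
  rw [← PrimeSpectrum.topologicalKrullDim_eq_ringKrullDim]
  exact (Scheme.homeoOfIso X.isoSpec).isHomeomorph.topologicalKrullDim_eq

end Dim

section Fib

variable {X Y : Scheme.{u}} [IsAffine X] [IsAffine Y] (f : X ⟶ Y) [LocallyOfFiniteType f] (y : Y)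

/-- the ring map from the residue field to the global sections of the fibre -/
noncomputable def inrF : Y.residueField y →+* Γ(f.fiber y, ⊤) :=
  ((Scheme.ΓSpecIso (Y.residueField y)).inv ≫ (f.fiberToSpecResidueField y).appTop).hom

theorem exists_vector_finite (e : ℕ) (he : topologicalKrullDim ↥(f.fiber y) = e) :
    ∃ b : Fin e → Γ(X, ⊤),
      (MvPolynomial.eval₂Hom (inrF f y) (fun i => (f.fiberι y).appTop.hom (b i)) :
        MvPolynomial (Fin e) (Y.residueField y) →+* Γ(f.fiber y, ⊤)).Finite := by
  haveI : IsAffine (f.fiber y) := by unfold Scheme.Hom.fiber; infer_instance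
  have hdim : ringKrullDim Γ(f.fiber y, ⊤) = e := by
    rw [← topologicalKrullDim_eq_ringKrullDim_of_isAffine]; exact he
  haveI : Nontrivial Γ(f.fiber y, ⊤) := by
    by_contra hnt
    rw [not_nontrivial_iff_subsingleton] at hnt
    rw [ringKrullDim_eq_bot_of_subsingleton] at hdim
    exact absurd hdim (by simp)
  have hPO : IsPushout f.appTop (Y.fromSpecResidueField y).appTop
      (f.fiberι y).appTop (f.fiberToSpecResidueField y).appTop :=
    isPushout_appTop_of_isPullback (IsPullback.of_hasPullback f (Y.fromSpecResidueField y))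
  refine exists_lift_finite f.appTop.hom (Y.evaluation ⊤ y trivial).hom
    (f.fiberι y).appTop.hom (inrF f y) ?_ ?_ (exists_evaluation_frac Y y) ?_ e hdim
  · -- commutativity
    have h1 := hPO.w
    rw [← fromSpecResidueField_appTop]
    unfold inrF
    rw [← CommRingCat.hom_comp, ← CommRingCat.hom_comp, h1]
    congr 1
    simp only [Category.assoc, Iso.hom_inv_id_assoc]
  · -- generation
    intro D hl hr
    apply subring_eq_top_of_isPushout hPO D hl
    intro k'
    have := hr ((Scheme.ΓSpecIso (Y.residueField y)).hom k')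
    unfold inrF at this
    simpa using this
  · -- finite type
    unfold inrF
    rw [CommRingCat.hom_comp]
    apply RingHom.FiniteType.comp
    · haveI : LocallyOfFiniteType (f.fiberToSpecResidueField y) := by
        unfold Scheme.Hom.fiberToSpecResidueField
        exact MorphismProperty.pullback_snd _ _ inferInstance
      exact (HasRingHomProperty.iff_of_isAffine (P := @LocallyOfFiniteType)).mp inferInstance
    · exact RingHom.FiniteType.of_surjective _
        (ConcreteCategory.bijective_of_isIso (Scheme.ΓSpecIso (Y.residueField y)).inv).2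

end Fib

section Main

variable {X Y : Scheme.{u}} [IsAffine X] [IsAffine Y] (f : X ⟶ Y) [LocallyOfFiniteType f] (y : Y)

/-- finiteness of the map on fibres induced by a vector whose images in the fibre ring are
parameters over which that ring is finite -/
theorem isFinite_snd_of_vector (e : ℕ) (b : Fin e → Γ(X, ⊤))
    (hb : (MvPolynomial.eval₂Hom (inrF f y) (fun i => (f.fiberι y).appTop.hom (b i)) :
      MvPolynomial (Fin e) (Y.residueField y) →+* Γ(f.fiber y, ⊤)).Finite) :
    IsFinite (pullback.snd (homOfVector f (fun i : ULift.{u} (Fin e) => b i.down))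
      ((𝔸(ULift.{u} (Fin e); Y) ↘ Y).fiberι y)) := by
  obtain ⟨g, hg⟩ : ∃ g : X ⟶ 𝔸(ULift.{u} (Fin e); Y),
    g = homOfVector f (fun i : ULift.{u} (Fin e) => b i.down) := ⟨_, rfl⟩
  rw [← hg]
  obtain ⟨π, hπ⟩ : ∃ π : 𝔸(ULift.{u} (Fin e); Y) ⟶ Y, π = (𝔸(ULift.{u} (Fin e); Y) ↘ Y) := ⟨_, rfl⟩
  rw [← hπ]
  have hgπ : g ≫ π = f := by rw [hg, hπ]; exact homOfVector_over f _
  have hcoord : ∀ i : Fin e, g.appTop (coord Y (ULift.up i)) = b i := by
    intro i
    rw [hg]
    exact homOfVector_appTop_coord f _ _
  haveI : IsAffineHom π := by rw [hπ]; infer_instance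
  haveI : IsAffine (π.fiber y) := by unfold Scheme.Hom.fiber; infer_instance
  haveI : IsAffine (f.fiber y) := by unfold Scheme.Hom.fiber; infer_instance
  haveI : IsAffine (pullback g (π.fiberι y)) := inferInstance
  -- pasting
  have hpb : IsPullback (pullback.fst g (π.fiberι y))
      (pullback.snd g (π.fiberι y) ≫ π.fiberToSpecResidueField y) f (Y.fromSpecResidueField y) := by
    have := (IsPullback.of_hasPullback g (π.fiberι y)).paste_vert
      (IsPullback.of_hasPullback π (Y.fromSpecResidueField y))
    rwa [hgπ] at this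
  have hPO : IsPushout f.appTop (Y.fromSpecResidueField y).appTop
      (f.fiberι y).appTop (f.fiberToSpecResidueField y).appTop :=
    isPushout_appTop_of_isPullback (IsPullback.of_hasPullback f (Y.fromSpecResidueField y))
  have hPO₂ := isPushout_appTop_of_isPullback hpb
  have h1 := hPO.inl_isoIsPushout_hom _ _ hPO₂
  have h2 := hPO.inr_isoIsPushout_hom _ _ hPO₂
  -- transfer finiteness to the sections of the pullback
  have hfin₂ := finite_of_ringEquiv (f.fiberι y).appTop.hom (inrF f y)
    (pullback.fst g (π.fiberι y)).appTop.hom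
    ((Scheme.ΓSpecIso (Y.residueField y)).inv ≫
      (pullback.snd g (π.fiberι y) ≫ π.fiberToSpecResidueField y).appTop).hom
    (hPO.isoIsPushout _ _ hPO₂).commRingCatIsoToRingEquiv
    (fun x => congrArg (fun φ => φ.hom x) h1)
    (fun k => by
      unfold inrF
      have := congrArg (fun φ => φ.hom ((Scheme.ΓSpecIso (Y.residueField y)).inv k)) h2
      exact this) b hb
  -- factor through the sections of the fibre of affine space
  let ψ : MvPolynomial (Fin e) (Y.residueField y) →+* Γ(π.fiber y, ⊤) :=
    MvPolynomial.eval₂Hom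
      ((Scheme.ΓSpecIso (Y.residueField y)).inv ≫ (π.fiberToSpecResidueField y).appTop).hom
      (fun i => (π.fiberι y).appTop.hom (coord Y (ULift.up i)))
  have hfac : (MvPolynomial.eval₂Hom
      ((Scheme.ΓSpecIso (Y.residueField y)).inv ≫
        (pullback.snd g (π.fiberι y) ≫ π.fiberToSpecResidueField y).appTop).hom
      (fun i => (pullback.fst g (π.fiberι y)).appTop.hom (b i)) :
        MvPolynomial (Fin e) (Y.residueField y) →+* Γ(pullback g (π.fiberι y), ⊤)) =
      (pullback.snd g (π.fiberι y)).appTop.hom.comp ψ := by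
    apply MvPolynomial.ringHom_ext
    · intro k
      simp only [ψ, RingHom.comp_apply, MvPolynomial.coe_eval₂Hom, MvPolynomial.eval₂_C]
      rw [Scheme.Hom.comp_appTop]
      rfl
    · intro i
      simp only [ψ, RingHom.comp_apply, MvPolynomial.coe_eval₂Hom, MvPolynomial.eval₂_X]
      rw [← hcoord i]
      have hc : pullback.fst g (π.fiberι y) ≫ g = pullback.snd g (π.fiberι y) ≫ π.fiberι y :=
        pullback.condition
      have := congrArg (fun φ => φ.appTop.hom (coord Y (ULift.up i))) hc
      simp only [Scheme.Hom.comp_appTop] at this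
      exact this
  rw [hfac] at hfin₂
  have hfin₃ : (pullback.snd g (π.fiberι y)).appTop.hom.Finite := RingHom.Finite.of_comp_finite hfin₂
  rw [HasAffineProperty.iff_of_isAffine (P := @IsFinite)]
  exact ⟨inferInstance, hfin₃⟩

/-- S3394 core -/
theorem exists_toAffineSpace_finite_on_fibre (e : ℕ) (he : topologicalKrullDim ↥(f.fiber y) = e) :
    ∃ g : X ⟶ 𝔸(ULift.{u} (Fin e); Y), g ≫ (𝔸(ULift.{u} (Fin e); Y) ↘ Y) = f ∧
      IsFinite (pullback.snd g ((𝔸(ULift.{u} (Fin e); Y) ↘ Y).fiberι y)) := by
  obtain ⟨b, hb⟩ := exists_vector_finite f y e he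
  exact ⟨homOfVector f (fun i : ULift.{u} (Fin e) => b i.down), homOfVector_over f _,
    isFinite_snd_of_vector f y e b hb⟩

end Main

end Groth.Agent.Helper7.FibNN
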