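import Mathlib
import Groth.Agent.Lib.Helper7.FibNN.Sch
import Groth.Agent.Lib.Helper4.Noether1

set_option linter.style.haveILetI false
set_option linter.unusedVariables false
set_option linter.unusedSectionVars false
set_option autoImplicit false
set_option backward.isDefEq.respectTransparency.types false

universe u

/-! helper7: helper7: a finite fibre map to affine space of the fibre dimension is surjective, and the morphism is quasi-finite near the fibre (S3395 core); quasi-finiteness at a point from the induced map on fibres -/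

namespace Groth.Agent.Helper7.FibNN

open CategoryTheory CategoryTheory.Limits AlgebraicGeometry AlgebraicGeometry.AffineSpace

section QF

variable {X Y Z : Scheme.{u}} (g : X ⟶ Z) [LocallyOfFiniteType g] (π : Z ⟶ Y) (y : Y)

/-- if the map induced by `g` on the fibres over `y` is locally quasi-finite, then `g` is
quasi-finite at all points over `y` -/
theorem quasiFiniteAt_of_locallyQuasiFinite_snd
    [LocallyQuasiFinite (pullback.snd g (π.fiberι y))] (x : X) (hx : π (g x) = y) :
    g.QuasiFiniteAt x := by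
  rw [Scheme.Hom.quasiFiniteAt_iff_isOpen_singleton_asFiber]
  rw [← (g.fiberHomeo (g x)).isOpen_image]
  simp only [Set.image_singleton, Scheme.Hom.asFiber, Homeomorph.apply_symm_apply]
  -- the point of the fibre of `π` under `g x`
  have hz : g x ∈ Set.range (π.fiberι y) := by
    rw [Scheme.Hom.range_fiberι]; exact hx
  obtain ⟨z', hz'⟩ := hz
  obtain ⟨p₀, hp₀1, hp₀2⟩ := Scheme.Pullback.exists_preimage_pullback (f := g) (g := π.fiberι y)
    x z' hz'.symm
  have hdisc := (pullback.snd g (π.fiberι y)).isDiscrete_preimage_singleton z'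
  rw [isDiscrete_iff_discreteTopology, discreteTopology_iff_isOpen_singleton] at hdisc
  have hopen := hdisc ⟨p₀, hp₀2⟩
  rw [isOpen_induced_iff] at hopen
  obtain ⟨O, hO, hOeq⟩ := hopen
  have hemb : Topology.IsEmbedding (pullback.fst g (π.fiberι y)) :=
    (pullback.fst g (π.fiberι y)).isEmbedding
  obtain ⟨O', hO', hO'eq⟩ := hemb.isInducing.isOpen_iff.mp hO
  have hset : ({⟨x, rfl⟩} : Set ↥(g ⁻¹' {g x})) = Subtype.val ⁻¹' O' := by
    ext ⟨x', hx'⟩
    simp only [Set.mem_singleton_iff, Subtype.mk.injEq, Set.mem_preimage]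
    constructor
    · rintro rfl
      have h1 : p₀ ∈ O := by
        have : (⟨p₀, hp₀2⟩ : ↥((pullback.snd g (π.fiberι y)) ⁻¹' {z'})) ∈
            Subtype.val ⁻¹' O := by rw [hOeq]; rfl
        exact this
      rw [← hO'eq] at h1
      rw [← hp₀1]
      exact h1
    · intro hx'O
      have hgx' : g x' = (π.fiberι y) z' := by
        have : g x' = g x := hx'
        rw [this, hz']
      obtain ⟨p, hp1, hp2⟩ := Scheme.Pullback.exists_preimage_pullback (f := g)
        (g := π.fiberι y) x' z' hgx'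
      have h1 : p ∈ O := by
        rw [← hO'eq]
        change (pullback.fst g (π.fiberι y)) p ∈ O'
        rw [hp1]; exact hx'O
      have h2 : (⟨p, hp2⟩ : ↥((pullback.snd g (π.fiberι y)) ⁻¹' {z'})) ∈
          Subtype.val ⁻¹' O := h1
      rw [hOeq] at h2
      have h3 : p = p₀ := congrArg Subtype.val h2
      rw [← hp1, h3, hp₀1]
  rw [hset]
  exact hO'.preimage continuous_subtype_val

end QF

section Surj

variable {X Y : Scheme.{u}} [IsAffine X] [IsAffine Y] (f : X ⟶ Y) [LocallyOfFiniteType f] (y : Y)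

/-- the sections of the fibre of affine space over a point form a polynomial ring over the
residue field -/
theorem exists_ringEquiv_fiber_affineSpace (n : Type u) :
    Nonempty (Γ((𝔸(n; Y) ↘ Y).fiber y, ⊤) ≃+* MvPolynomial n (Y.residueField y)) := by
  let e₀ := (AffineSpace.isPullback_map (n := n) (Y.fromSpecResidueField y)).isoPullback
  let e₁ : (𝔸(n; Y) ↘ Y).fiber y ≅ Spec (CommRingCat.of (MvPolynomial n (Y.residueField y))) :=
    e₀.symm ≪≫ AffineSpace.SpecIso n (Y.residueField y)
  let e₂ : Γ((𝔸(n; Y) ↘ Y).fiber y, ⊤) ≅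
      Γ(Spec (CommRingCat.of (MvPolynomial n (Y.residueField y))), ⊤) :=
    Scheme.Γ.mapIso e₁.symm.op
  exact ⟨(e₂ ≪≫ Scheme.ΓSpecIso _).commRingCatIsoToRingEquiv⟩

/-- a finite ring map from a Noetherian domain to a ring of the same finite dimension is
injective -/
theorem injective_of_finite_of_dim_eq {R T : Type u} [CommRing R] [CommRing T] [IsDomain R]
    (φ : R →+* T) (hφ : φ.Finite) (e : ℕ) (hR : ringKrullDim R = e) (hT : ringKrullDim T = e) :
    Function.Injective φ := by
  rw [RingHom.injective_iff_ker_eq_bot]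
  by_contra hker
  obtain ⟨r, hrI, hr0⟩ := Submodule.exists_mem_ne_zero_of_ne_bot hker
  have hψinj : Function.Injective (RingHom.kerLift φ) := RingHom.kerLift_injective φ
  have hcomp : (RingHom.kerLift φ).comp (Ideal.Quotient.mk (RingHom.ker φ)) = φ := by
    ext x
    rfl
  have hψfin : (RingHom.kerLift φ).Finite := by
    apply RingHom.Finite.of_comp_finite (f := Ideal.Quotient.mk (RingHom.ker φ))
    rw [hcomp]
    exact hφ
  have h1 := Groth.Agent.Helper4.NN.ringKrullDim_eq_of_finite_injective _ hψfin hψinj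
  rw [hT] at h1
  have hr : r ∈ nonZeroDivisors R := mem_nonZeroDivisors_of_ne_zero hr0
  have h2 := ringKrullDim_quotient_succ_le_of_nonZeroDivisor hr
  rw [hR] at h2
  have hle : Ideal.span {r} ≤ RingHom.ker φ := by
    rw [Ideal.span_singleton_le_iff_mem]; exact hrI
  have h3 : ringKrullDim (R ⧸ RingHom.ker φ) ≤ ringKrullDim (R ⧸ Ideal.span {r}) :=
    ringKrullDim_le_of_surjective (Ideal.Quotient.factor hle) (Ideal.Quotient.factor_surjective hle)
  rw [← h1] at h3
  have h4 : ((e : ℕ) : WithBot ℕ∞) + 1 ≤ (e : ℕ) :=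
    le_trans (by gcongr) h2
  have h5 : ((e + 1 : ℕ) : WithBot ℕ∞) ≤ (e : ℕ) := by
    push_cast
    exact h4
  have h6 : e + 1 ≤ e := by exact_mod_cast h5
  omega

end Surj

section Main

variable {X Y : Scheme.{u}} [IsAffine X] [IsAffine Y] (f : X ⟶ Y) [LocallyOfFiniteType f] (y : Y)

/-- a morphism of affine schemes whose map on global sections is integral and injective is
surjective -/
theorem surjective_of_finite_injective_appTop {P Q : Scheme.{u}} [IsAffine P] [IsAffine Q]
    (h : P ⟶ Q) (hfin : h.appTop.hom.Finite) (hinj : Function.Injective h.appTop.hom) :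
    Function.Surjective h := by
  intro q
  have hnat := Scheme.isoSpec_hom_naturality h
  algebraize [h.appTop.hom]
  haveI : Algebra.IsIntegral Γ(Q, ⊤) Γ(P, ⊤) := Algebra.IsIntegral.of_finite _ _
  obtain ⟨q', hq'⟩ : ∃ q' : PrimeSpectrum Γ(Q, ⊤), q' = Q.isoSpec.hom q := ⟨_, rfl⟩
  haveI := q'.2
  have hker : (⊥ : Ideal Γ(P, ⊤)).comap (algebraMap Γ(Q, ⊤) Γ(P, ⊤)) ≤ q'.asIdeal := by
    rw [← RingHom.ker_eq_comap_bot]
    have h0 : RingHom.ker (algebraMap Γ(Q, ⊤) Γ(P, ⊤)) = ⊥ :=
      (RingHom.injective_iff_ker_eq_bot _).mp hinj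
    rw [h0]
    exact bot_le
  obtain ⟨𝔭, -, h𝔭, h𝔭q⟩ := Ideal.exists_ideal_over_prime_of_isIntegral q'.asIdeal
    (⊥ : Ideal Γ(P, ⊤)) hker
  let p' : Spec Γ(P, ⊤) := ⟨𝔭, h𝔭⟩
  have h1 : (Spec.map h.appTop) p' = Q.isoSpec.hom q := by
    rw [← hq']
    exact PrimeSpectrum.ext h𝔭q
  refine ⟨P.isoSpec.inv p', ?_⟩
  have h2 : Q.isoSpec.hom (h (P.isoSpec.inv p')) = Q.isoSpec.hom q := by
    rw [← Scheme.Hom.comp_apply, ← hnat, Scheme.Hom.comp_apply, Scheme.inv_hom_apply]
    exact h1
  have h3 := congrArg Q.isoSpec.inv h2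
  rwa [Scheme.hom_inv_apply, Scheme.hom_inv_apply] at h3

/-- S3395 core -/
theorem surjective_fibre_and_quasiFinite_nhd (e : ℕ) (he : topologicalKrullDim ↥(f.fiber y) = e)
    (g : X ⟶ 𝔸(ULift.{u} (Fin e); Y)) (hg : g ≫ (𝔸(ULift.{u} (Fin e); Y) ↘ Y) = f)
    (hfin : IsFinite (pullback.snd g ((𝔸(ULift.{u} (Fin e); Y) ↘ Y).fiberι y))) :
    Function.Surjective (pullback.snd g ((𝔸(ULift.{u} (Fin e); Y) ↘ Y).fiberι y)) ∧
      ∃ U : X.Opens, f ⁻¹' {y} ⊆ (U : Set X) ∧ LocallyQuasiFinite (U.ι ≫ g) := by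
  obtain ⟨π, hπ⟩ : ∃ π : 𝔸(ULift.{u} (Fin e); Y) ⟶ Y, π = (𝔸(ULift.{u} (Fin e); Y) ↘ Y) := ⟨_, rfl⟩
  rw [← hπ] at hg hfin ⊢
  haveI : LocallyOfFiniteType (g ≫ π) := by rw [hg]; infer_instance
  haveI : LocallyOfFiniteType g := locallyOfFiniteType_of_comp g π
  constructor
  · haveI : IsAffineHom π := by rw [hπ]; infer_instance
    haveI : IsAffine (π.fiber y) := by unfold Scheme.Hom.fiber; infer_instance
    haveI : IsAffine (f.fiber y) := by unfold Scheme.Hom.fiber; infer_instance
    haveI : IsAffine (pullback g (π.fiberι y)) := inferInstance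
    obtain ⟨ρ⟩ : Nonempty (Γ(π.fiber y, ⊤) ≃+*
        MvPolynomial (ULift.{u} (Fin e)) (Y.residueField y)) := by
      rw [hπ]; exact exists_ringEquiv_fiber_affineSpace y _
    haveI : IsDomain Γ(π.fiber y, ⊤) := ρ.toMulEquiv.isDomain
    have hdimR : ringKrullDim Γ(π.fiber y, ⊤) = e := by
      rw [ringKrullDim_eq_of_ringEquiv ρ, MvPolynomial.ringKrullDim_of_isNoetherianRing,
        ringKrullDim_eq_zero_of_field, zero_add]
      simp
    have hpb : IsPullback (pullback.fst g (π.fiberι y))
        (pullback.snd g (π.fiberι y) ≫ π.fiberToSpecResidueField y) f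
        (Y.fromSpecResidueField y) := by
      have := (IsPullback.of_hasPullback g (π.fiberι y)).paste_vert
        (IsPullback.of_hasPullback π (Y.fromSpecResidueField y))
      rwa [hg] at this
    have hdimT : ringKrullDim Γ(pullback g (π.fiberι y), ⊤) = e := by
      rw [← topologicalKrullDim_eq_ringKrullDim_of_isAffine, ← he]
      exact (Scheme.homeoOfIso hpb.isoPullback).isHomeomorph.topologicalKrullDim_eq
    have hφ : (pullback.snd g (π.fiberι y)).appTop.hom.Finite :=
      ((HasAffineProperty.iff_of_isAffine (P := @IsFinite)).mp hfin).2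
    have hinj := injective_of_finite_of_dim_eq _ hφ e hdimR hdimT
    exact surjective_of_finite_injective_appTop _ hφ hinj
  · refine ⟨g.quasiFiniteLocus, ?_, inferInstance⟩
    intro x hx
    have hx' : π (g x) = y := by
      rw [← Scheme.Hom.comp_apply, hg]; exact hx
    haveI : LocallyQuasiFinite (pullback.snd g (π.fiberι y)) := inferInstance
    exact quasiFiniteAt_of_locallyQuasiFinite_snd g π y x hx'

end Main

end Groth.Agent.Helper7.FibNN
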